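import Mathlib
import Cfsg.Prelude.Def_PLocal
import Cfsg.Agent.ZJ.Theorem
import Cfsg.Agent.ZJ.Functor
import Cfsg.Agent.ZJ.Thompson
import Cfsg.Agent.H11.Act
import Cfsg.Agent.BG.OmegaOdd

/-!
The ZJ-theorem for the elementary abelian version of the Thompson subgroup.
-/

set_option autoImplicit false

namespace Cfsg.Agent.ZJ

open Cfsg Subgroup
open scoped commutatorElement Pointwise

universe u
variable {G : Type u} [Group G]

theorem thompsonOf_eq_of_maxIn {p : ℕ} {S T : Subgroup G}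
    (h : maxIn (fun A : Subgroup G => IsElementaryAbelian p A) T = maxIn (fun A : Subgroup G => IsElementaryAbelian p A) S) :
    thompsonSubgroupOf p T = thompsonSubgroupOf p S := by
  rw [thompsonSubgroupOf_eq, thompsonSubgroupOf_eq, h]

theorem centerThompsonOf_eq_of_maxIn {p : ℕ} {S T : Subgroup G}
    (h : maxIn (fun A : Subgroup G => IsElementaryAbelian p A) T = maxIn (fun A : Subgroup G => IsElementaryAbelian p A) S) :
    centerThompsonOf p T = centerThompsonOf p S := by
  rw [centerThompsonOf, centerThompsonOf, thompsonOf_eq_of_maxIn h]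

theorem centerThompsonOf_comm (p : ℕ) (S : Subgroup G) : IsMulCommutative (centerThompsonOf p S) := by
  rw [H11.comm_iff]
  intro a ha b hb
  exact mem_centralizer_iff.mp hb.2 a ha.1

theorem centerThompsonOf_le (p : ℕ) (S : Subgroup G) : centerThompsonOf p S ≤ S :=
  inf_le_left.trans (by rw [← rel_thompson]; exact rel_le _ _)

theorem comm_of_mem_centerThompsonOf {p : ℕ} {S A : Subgroup G}
    (hA : A ∈ maxIn (fun A : Subgroup G => IsElementaryAbelian p A) S) {z : G}
    (hz : z ∈ centerThompsonOf p S) : ∀ a ∈ A, a * z = z * a := by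
  intro a ha
  apply mem_centralizer_iff.mp hz.2
  rw [thompsonSubgroupOf_eq]
  exact (le_sSup hA) ha

theorem mem_of_mem_centerThompsonOf [Finite G] {p : ℕ} {S A : Subgroup G}
    (hA : A ∈ maxIn (fun A : Subgroup G => IsElementaryAbelian p A) S) {z : G}
    (hz : z ∈ centerThompsonOf p S) (hzp : z ^ p = 1) : z ∈ A :=
  mem_of_maxIn_elem hA (centerThompsonOf_le p S hz) hzp
    (mem_centralizer_iff.mpr (comm_of_mem_centerThompsonOf hA hz))

/-- `B ∩ Z(J_e(S))` is normal for every normal `p`-subgroup `B`. -/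
theorem inf_centerThompsonOf_normal [Finite G] {p : ℕ} [hpf : Fact p.Prime] (hp : p ≠ 2) (S : Sylow p G)
    (hst : ∀ (P : Subgroup G) [P.Normal], IsPGroup p P → IsPStableOn p P) :
    ∀ B : Subgroup G, B.Normal → IsPGroup p B → (B ⊓ centerThompsonOf p (S : Subgroup G)).Normal := by
  set E : Subgroup G → Prop := fun A : Subgroup G => IsElementaryAbelian p A with hE
  set Z := centerThompsonOf p (S : Subgroup G) with hZ
  set J := thompsonSubgroupOf p (S : Subgroup G) with hJ
  have hJn : normalizer ((S : Subgroup G) : Set G) ≤ normalizer (J : Set G) := by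
    rw [hJ, ← rel_thompson]; exact normalizer_le_normalizer_rel (isNat_thompson p) _
  have hZn : normalizer ((S : Subgroup G) : Set G) ≤ normalizer (Z : Set G) := by
    rw [hZ, ← rel_zje]; exact normalizer_le_normalizer_rel (isNat_zje p) _
  have hSZ : (S : Subgroup G) ≤ normalizer (Z : Set G) := le_normalizer.trans hZn
  have hZc : IsMulCommutative Z := centerThompsonOf_comm p _
  have hZS : Z ≤ S := centerThompsonOf_le p _
  apply inf_normal_induct S Z hSZ
  intro B hBn hBp hcl hBB hsmall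
  by_cases hB1 : B = ⊥
  · rw [hB1, bot_inf_eq]; infer_instance
  set L := (normalizer ((B ⊓ Z : Subgroup G) : Set G)).normalCore with hL
  have hBS : B ≤ (S : Subgroup G) := hBp.le_sylow_of_normal S
  have hBNZ : B ≤ normalizer (Z : Set G) := hBS.trans hSZ
  have hSN : (S : Subgroup G) ≤ normalizer ((B ⊓ Z : Subgroup G) : Set G) := by
    intro s hs
    apply inf_normalizer_le_normalizer_inf
    exact ⟨le_normalizer_of_normal hs, hSZ hs⟩
  have hCN : centralizer (B : Set G) ≤ normalizer ((B ⊓ Z : Subgroup G) : Set G) :=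
    centralizer_le_normalizer_of_le inf_le_left
  have hquad : ∀ A : Subgroup G, ⁅⁅B, A⁆, A⁆ = ⊥ → A ≤ L :=
    fun A hA => le_normalCore_of_quadratic S B (hst B hBp) _ hSN hCN A hA
  have hLN : L ≤ normalizer ((B ⊓ Z : Subgroup G) : Set G) := normalCore_le _
  have hZL : Z ≤ L := hquad Z (quadratic_of_le_normalizer hZc hBNZ)
  set T := (S : Subgroup G) ⊓ L with hT
  obtain ⟨A₀, hA₀⟩ := maxIn_nonempty E (H11.elem_bot p) (S : Subgroup G)
  by_cases hall : ∀ A ∈ maxIn E (S : Subgroup G), A ≤ L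
  · have hTeq : maxIn E T = maxIn E (S : Subgroup G) := by
      rw [maxIn_eq_of_mem (inf_le_left : T ≤ (S : Subgroup G)) hA₀ (le_inf hA₀.1 (hall _ hA₀))]
      ext X
      exact ⟨fun h => h.1, fun h => ⟨h, le_inf h.1 (hall X h)⟩⟩
    have hNT : normalizer (T : Set G) ≤ normalizer (Z : Set G) := by
      rw [hZ, ← centerThompsonOf_eq_of_maxIn hTeq, ← rel_zje]
      exact normalizer_le_normalizer_rel (isNat_zje p) _
    rw [← normalizer_eq_top_iff, eq_top_iff]
    intro g _
    obtain ⟨n, hn, l, hl, rfl⟩ := exists_mul_of_frattini S L g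
    refine mul_mem ?_ (hLN hl)
    apply inf_normalizer_le_normalizer_inf
    exact ⟨le_normalizer_of_normal (mem_top n), hNT hn⟩
  · exfalso
    push Not at hall
    have hfin : ({A : Subgroup G | A ∈ maxIn E (S : Subgroup G) ∧ ¬ A ≤ L}).Finite := Set.toFinite _
    obtain ⟨A₂, hA₂, hA₂L⟩ := hall
    obtain ⟨A, ⟨hA, hAL⟩, hmax⟩ := hfin.exists_maximalFor
      (fun A : Subgroup G => Nat.card ((A ⊔ Z) ⊓ B : Subgroup G)) _ ⟨A₂, hA₂, hA₂L⟩
    set A' := A ⊔ Z with hA'
    have hAZ : ∀ X ∈ maxIn E (S : Subgroup G), ∀ a ∈ X, ∀ z ∈ Z, a * z = z * a :=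
      fun X hX a ha z hz => comm_of_mem_centerThompsonOf hX hz a ha
    have hA'c : IsMulCommutative A' := H11.comm_sup hA.2.1.1 hZc (hAZ A hA)
    have hnn : ¬ B ≤ normalizer (A' : Set G) := by
      intro h
      exact hAL (le_sup_left.trans (hquad A' (quadratic_of_le_normalizer hA'c h)))
    have hcl2 : ⁅⁅B, B⁆, B⁆ = ⊥ := class_two_of_normalClosure hZc hcl hBB
    obtain ⟨A₁, hA₁S, hA₁c, hA₁card, hlt, hA₁N, hA₁Z⟩ := replacement hp S.isPGroup' hBS
      (sup_le hA.1 hZS) hA'c (hBB.trans le_sup_right) hcl2 hnn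
    have hA'dec : ∀ a ∈ A', ∃ z ∈ Z, ∃ a₀ ∈ A', a₀ ^ p = 1 ∧ a = z * a₀ := by
      intro a ha
      have hAZn : A ≤ normalizer (Z : Set G) := hA.1.trans hSZ
      obtain ⟨a₁, ha₁, z, hz, rfl⟩ := (H11.mem_sup_of_le_normalizer hAZn).mp ha
      exact ⟨z, hz, a₁, (le_sup_left : A ≤ A') ha₁, hA.2.1.2 a₁ ha₁, hAZ A hA a₁ ha₁ z hz⟩
    obtain ⟨hZA₁, hA₁dec⟩ := hA₁Z Z le_sup_right hBNZ hA'dec
    have hA₁cc : ∀ x ∈ A₁, ∀ y ∈ A₁, x * y = y * x := (H11.comm_iff A₁).mp hA₁c
    -- Ω₁(A₁)
    let D : Subgroup G :=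
      { carrier := {v | v ∈ A₁ ∧ v ^ p = 1}
        one_mem' := ⟨one_mem _, one_pow _⟩
        mul_mem' := by
          rintro v w ⟨hv1, hv2⟩ ⟨hw1, hw2⟩
          refine ⟨mul_mem hv1 hw1, ?_⟩
          have hc : Commute v w := hA₁cc v hv1 w hw1
          rw [hc.mul_pow, hv2, hw2, one_mul]
        inv_mem' := by
          rintro v ⟨hv1, hv2⟩
          exact ⟨inv_mem hv1, by rw [inv_pow, hv2, inv_one]⟩ }
    have hDmem : ∀ v, v ∈ D ↔ v ∈ A₁ ∧ v ^ p = 1 := fun v => Iff.rfl
    have hDA₁ : D ≤ A₁ := fun v hv => hv.1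
    have hDe : E D := by
      refine ⟨?_, fun v hv => hv.2⟩
      rw [H11.comm_iff]
      intro a ha b hb
      exact hA₁cc a ha.1 b hb.1
    have hDZ : D ⊔ Z = A₁ := by
      apply le_antisymm (sup_le hDA₁ hZA₁)
      intro a ha
      obtain ⟨z, hz, a₀, ha₀, ha₀p, rfl⟩ := hA₁dec a ha
      exact mul_mem ((le_sup_right : Z ≤ D ⊔ Z) hz) ((le_sup_left : D ≤ D ⊔ Z) ⟨ha₀, ha₀p⟩)
    have hinf : D ⊓ Z = A ⊓ Z := by
      ext z
      constructor
      · rintro ⟨h1, h2⟩
        exact ⟨mem_of_mem_centerThompsonOf hA h2 h1.2, h2⟩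
      · rintro ⟨h1, h2⟩
        exact ⟨⟨hZA₁ h2, hA.2.1.2 z h1⟩, h2⟩
    have hDcard : Nat.card A ≤ Nat.card D := by
      have e1 := H11.card_sup_mul_card_inf (hA.1.trans hSZ : A ≤ normalizer (Z : Set G))
      have e2 := H11.card_sup_mul_card_inf ((hDA₁.trans hA₁S).trans hSZ : D ≤ normalizer (Z : Set G))
      rw [hDZ, hinf] at e2
      have e3 : Nat.card A * Nat.card Z ≤ Nat.card D * Nat.card Z := by
        rw [← e1, ← e2]
        exact Nat.mul_le_mul_right _ hA₁card
      exact Nat.le_of_mul_le_mul_right e3 Nat.card_pos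
    have hDmax : D ∈ maxIn E (S : Subgroup G) :=
      ⟨hDA₁.trans hA₁S, hDe, fun C hC hCc => (hA.2.2 C hC hCc).trans hDcard⟩
    have hDL : D ≤ L := by
      by_contra hcon
      have h1 := card_lt_of_lt' hlt
      rw [← hDZ] at h1
      have h2 := hmax ⟨hDmax, hcon⟩ h1.le
      exact absurd h2 (not_le.mpr h1)
    have hDT : D ≤ T := le_inf hDmax.1 hDL
    have hTeq := maxIn_eq_of_mem (inf_le_left : T ≤ (S : Subgroup G)) hDmax hDT
    have hDT' : D ∈ maxIn E T := by rw [hTeq]; exact ⟨hDmax, hDT⟩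
    -- B centralizes J_e(T)
    set JT := thompsonSubgroupOf p T with hJT
    have hJTJ : JT ≤ J := by
      rw [hJT, hJ, thompsonSubgroupOf_eq, thompsonSubgroupOf_eq]
      apply sSup_le
      intro X hX
      have hX' : X ∈ maxIn E T := hX
      rw [hTeq] at hX'
      exact le_sSup hX'.1
    have hNJT : normalizer (T : Set G) ≤ normalizer (JT : Set G) := by
      rw [hJT, ← rel_thompson]; exact normalizer_le_normalizer_rel (isNat_thompson p) _
    have hBJT : B ≤ centralizer (JT : Set G) := by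
      conv_lhs => rw [hcl]
      unfold normalClosure
      rw [closure_le]
      intro x hx
      rw [Group.mem_conjugatesOfSet_iff] at hx
      obtain ⟨y, hy, hyx⟩ := hx
      rw [isConj_iff] at hyx
      obtain ⟨g, rfl⟩ := hyx
      obtain ⟨n, hn, l, hl, rfl⟩ := exists_mul_of_frattini S L g
      have h1 : l * y * l⁻¹ ∈ B ⊓ Z := conj_mem_of_mem_normalizer (hLN hl) hy
      have h2 : n * l * y * (n * l)⁻¹ = n * (l * y * l⁻¹) * n⁻¹ := by group
      rw [h2]
      change n * (l * y * l⁻¹) * n⁻¹ ∈ centralizer (JT : Set G)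
      rw [mem_centralizer_iff]
      intro j hj
      have h3 : n⁻¹ * j * n ∈ JT := by
        have := conj_mem_of_mem_normalizer (inv_mem (hNJT hn)) hj
        simpa using this
      have h4 := mem_centralizer_iff.mp h1.2.2 _ (hJTJ h3)
      calc j * (n * (l * y * l⁻¹) * n⁻¹) = n * ((n⁻¹ * j * n) * (l * y * l⁻¹)) * n⁻¹ := by group
        _ = n * ((l * y * l⁻¹) * (n⁻¹ * j * n)) * n⁻¹ := by rw [h4]
        _ = n * (l * y * l⁻¹) * n⁻¹ * j := by group
    have hDJT : D ≤ JT := by
      rw [hJT, thompsonSubgroupOf_eq]; exact le_sSup hDT'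
    -- elements of order p of B lie in D
    have hBD : ∀ x ∈ B, x ^ p = 1 → x ∈ D := by
      intro x hx hxp
      refine mem_of_maxIn_elem hDmax (hBS hx) hxp ?_
      rw [mem_centralizer_iff]
      intro d hd
      exact mem_centralizer_iff.mp (hBJT hx) d (hDJT hd)
    -- the subgroup of p-th powers
    set B₀ : Subgroup G := closure {y : G | ∃ x ∈ B, y = x ^ p} with hB₀
    have hB₀n : B₀.Normal := by
      have h1 := BG.normalizer_closure_pow (K := B) (A := ⊤) (by rw [normalizer_eq_top_iff.mpr hBn]) p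
      rw [top_le_iff, normalizer_eq_top_iff] at h1
      exact h1
    have hB₀lt : B₀ < B := by
      have hnt : Nontrivial B := (nontrivial_iff_ne_bot B).mpr hB1
      obtain ⟨M, hMn, hMi, hMp, -⟩ := BG.exists_index_p hBp
      have h1 : B₀ ≤ M.map B.subtype := by
        rw [hB₀, closure_le]
        rintro _ ⟨x, hx, rfl⟩
        exact ⟨⟨x, hx⟩ ^ p, hMp _, rfl⟩
      have h2 : M.map B.subtype < B := by
        refine lt_of_le_of_ne (map_subtype_le M) ?_
        intro h3
        have h4 : Nat.card (M.map B.subtype) = Nat.card B := by rw [h3]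
        rw [card_map_subtype] at h4
        have h5 := M.card_mul_index
        rw [hMi, h4] at h5
        have h6 : 0 < Nat.card B := Nat.card_pos
        have h7 := hpf.out.two_le
        nlinarith
      exact lt_of_le_of_lt h1 h2
    set Z₁ := B₀ ⊓ Z with hZ₁
    have hZ₁n : Z₁.Normal := hsmall B₀ hB₀n hB₀lt
    -- M = C_G(Z₁) contains J and G = N_G(J) M
    set M := centralizer (Z₁ : Set G) with hM
    have hMn : M.Normal := inferInstance
    have hJM : J ≤ M := by
      intro j hj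
      rw [hM, mem_centralizer_iff]
      intro z hz
      exact (mem_centralizer_iff.mp hz.2.2 j hj).symm
    have hJS : J ≤ (S : Subgroup G) := by rw [hJ, ← rel_thompson]; exact rel_le _ _
    have hTM : maxIn E ((S : Subgroup G) ⊓ M) = maxIn E (S : Subgroup G) := by
      have hXM : ∀ X ∈ maxIn E (S : Subgroup G), X ≤ M := by
        intro X hX
        refine le_trans ?_ hJM
        rw [hJ, thompsonSubgroupOf_eq]; exact le_sSup hX
      rw [maxIn_eq_of_mem (inf_le_left : (S : Subgroup G) ⊓ M ≤ (S : Subgroup G)) hA₀ (le_inf hA₀.1 (hXM _ hA₀))]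
      ext X
      exact ⟨fun h => h.1, fun h => ⟨h, le_inf h.1 (hXM X h)⟩⟩
    have hNM : normalizer (((S : Subgroup G) ⊓ M : Subgroup G) : Set G) ≤ normalizer (Z : Set G) := by
      rw [hZ, ← centerThompsonOf_eq_of_maxIn hTM, ← rel_zje]
      exact normalizer_le_normalizer_rel (isNat_zje p) _
    -- conclusion: B ≤ D Z
    have hBc : ∀ x ∈ B, ∀ y ∈ B, ∀ z ∈ B, ⁅x, y⁆ * z = z * ⁅x, y⁆ := by
      intro x hx y hy z hz
      have h1 : ⁅⁅x, y⁆, z⁆ ∈ ⁅⁅B, B⁆, B⁆ :=
        commutator_mem_commutator (commutator_mem_commutator hx hy) hz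
      rw [hcl2, mem_bot, commutatorElement_eq_one_iff_mul_comm] at h1
      exact h1
    have hkey : B ≤ A₁ := by
      conv_lhs => rw [hcl]
      unfold normalClosure
      rw [closure_le]
      intro x hx
      rw [Group.mem_conjugatesOfSet_iff] at hx
      obtain ⟨y, hy, hyx⟩ := hx
      rw [isConj_iff] at hyx
      obtain ⟨g, rfl⟩ := hyx
      -- g = m * n
      obtain ⟨n', hn', m', hm', hgn⟩ := exists_mul_of_frattini S M g⁻¹
      have hg : g = m'⁻¹ * n'⁻¹ := by
        rw [← inv_inv g, hgn]; group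
      set m := m'⁻¹ with hm
      set n := n'⁻¹ with hn
      have hmM : m ∈ M := inv_mem hm'
      have hnN : n ∈ normalizer (Z : Set G) := inv_mem (hNM hn')
      set v := n * y * n⁻¹ with hv
      have hvZ : v ∈ Z := conj_mem_of_mem_normalizer hnN hy.2
      have hvB : v ∈ B := Subgroup.Normal.conj_mem hBn y hy.1 n
      have hgv : g * y * g⁻¹ = m * v * m⁻¹ := by rw [hg, hv]; group
      rw [hgv]
      set w := m * v * m⁻¹ with hw
      have hwB : w ∈ B := Subgroup.Normal.conj_mem hBn v hvB m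
      have hvp : v ^ p ∈ Z₁ := ⟨subset_closure ⟨v, hvB, rfl⟩, pow_mem hvZ p⟩
      have hwp : w ^ p = v ^ p := by
        rw [hw, conj_pow]
        have := mem_centralizer_iff.mp hmM _ hvp
        rw [← this]; group
      -- (v⁻¹ * w)^p = 1
      have hcw : ⁅w, v⁻¹⁆ * w = w * ⁅w, v⁻¹⁆ := hBc w hwB v⁻¹ (inv_mem hvB) w hwB
      have hcv : ⁅w, v⁻¹⁆ * v⁻¹ = v⁻¹ * ⁅w, v⁻¹⁆ := hBc w hwB v⁻¹ (inv_mem hvB) v⁻¹ (inv_mem hvB)
      have h1 : (v⁻¹ * w) ^ p = v⁻¹ ^ p * w ^ p * ⁅w, v⁻¹⁆ ^ (p.choose 2) := by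
        apply BG.mul_pow_of_comm
        · have hc1 : Commute ⁅w, v⁻¹⁆ v⁻¹ := hcv
          have hc2 : Commute ⁅w, v⁻¹⁆ w := hcw
          rw [← (hc1.mul_right hc2).eq, commutatorElement_def]; group
        · exact hcv
        · exact hcw
      have h2 : ⁅w, v⁻¹⁆ ^ p = 1 := by
        have hk : ∀ k : ℕ, w ^ k * v⁻¹ * (w ^ k)⁻¹ = ⁅w, v⁻¹⁆ ^ k * v⁻¹ := by
          intro k
          induction k with
          | zero => simp
          | succ k ih =>
            calc w ^ (k+1) * v⁻¹ * (w ^ (k+1))⁻¹ = w * (w ^ k * v⁻¹ * (w ^ k)⁻¹) * w⁻¹ := by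
                  rw [pow_succ']; group
              _ = w * (⁅w, v⁻¹⁆ ^ k * v⁻¹) * w⁻¹ := by rw [ih]
              _ = ⁅w, v⁻¹⁆ ^ k * (w * v⁻¹ * w⁻¹) := by
                  have hc : Commute ⁅w, v⁻¹⁆ w := hcw
                  rw [← mul_assoc, ← (hc.pow_left k).eq]; group
              _ = ⁅w, v⁻¹⁆ ^ k * (⁅w, v⁻¹⁆ * v⁻¹) := by
                  congr 1; rw [commutatorElement_def]; group
              _ = ⁅w, v⁻¹⁆ ^ (k+1) * v⁻¹ := by rw [pow_succ]; group
        have h3 := hk p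
        rw [hwp] at h3
        have h4 : v ^ p * v⁻¹ * (v ^ p)⁻¹ = v⁻¹ := by group
        rw [h4] at h3
        have h5 : 1 * v⁻¹ = ⁅w, v⁻¹⁆ ^ p * v⁻¹ := by rw [one_mul]; exact h3
        exact (mul_right_cancel h5).symm
      have h3 : (v⁻¹ * w) ^ p = 1 := by
        obtain ⟨m, hm⟩ : p ∣ p.choose 2 :=
          hpf.out.dvd_choose_self (by norm_num) (lt_of_le_of_ne hpf.out.two_le (Ne.symm hp))
        rw [h1, hwp, hm, pow_mul, h2, one_pow, mul_one, inv_pow, inv_mul_cancel]
      have h4 : v⁻¹ * w ∈ D := hBD _ (mul_mem (inv_mem hvB) hwB) h3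
      have h5 : w = v * (v⁻¹ * w) := by group
      rw [h5]
      exact mul_mem (hZA₁ hvZ) (hDA₁ h4)
    exact hnn (hkey.trans hA₁N)

/-- **ZJ-theorem**, elementary abelian version. -/
theorem centerThompsonOf_normal [Finite G] {p : ℕ} [Fact p.Prime] (hp : p ≠ 2)
    (hc : centralizer (pCore p G : Set G) ≤ pCore p G)
    (hst : ∀ (P : Subgroup G) [P.Normal], IsPGroup p P → IsPStableOn p P) (S : Sylow p G) :
    (centerThompsonOf p (S : Subgroup G)).Normal := by
  refine normal_of_inf_normal S _ (centerThompsonOf_comm p _) ?_ hc hst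
    (inf_centerThompsonOf_normal hp S hst)
  rw [← rel_zje]
  exact le_normalizer.trans (normalizer_le_normalizer_rel (isNat_zje p) _)

/-- Glauberman's normal `p`-complement theorem -/
theorem hasNPC_of_zje {p : ℕ} [hpf : Fact p.Prime] (hp : p ≠ 2) (G : Type u) [Group G] [Finite G]
    (P : Sylow p G)
    (hN : HasNormalPComplement p (normalizer (centerThompsonOf p (P : Subgroup G) : Set G))) :
    HasNormalPComplement p G := by
  refine hasNPC_of_functors' (ι := Unit) (fun _ X _ => zje p X) (fun _ => isNat_zje p)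
    (fun _ X _ _ hX hn => zje_ne_bot X hX hn) ?_ G P (fun _ => by rw [rel_zje]; exact hN)
  intro G _ _ P M hsp hrel
  have h1 : (centerThompsonOf p (P : Subgroup G)).Normal :=
    centerThompsonOf_normal hp hsp.cent (fun V hV hVp => hsp.stable hp V hVp) P
  have h2 := hrel ()
  rw [rel_zje, normalizer_eq_top_iff.mpr h1] at h2
  exact hsp.ne_top h2.symm

end Cfsg.Agent.ZJ
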