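import Mathlib
import Cfsg.Agent.ZJ.NPCThm
import Cfsg.Agent.ZJ.TheoremE
import Cfsg.Agent.H33.SecControl
import Cfsg.Agent.H36.PStabSec

/-!
Functors normal in all constrained sections control strong fusion; groups without sections `SL(2, p)` are stable.
-/

set_option autoImplicit false

namespace Cfsg.Agent.ZJ

open Cfsg Subgroup

universe u

/-- a natural functor on `p`-groups which is normal in all constrained sections controls strong fusion. -/
theorem control_of_sections {p : ℕ} [Fact p.Prime] {W : ∀ (X : Type u) [Group X], Subgroup X} (hW : IsNat W)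
    (hW1 : ∀ (X : Type u) [Group X] [Finite X], IsPGroup p X → Nontrivial X → W X ≠ ⊥)
    {G : Type u} [Group G] [Finite G]
    (hloc : ∀ (X : Type u) [Group X] [Finite X], H2.Sec X G →
      Subgroup.centralizer ((Cfsg.pCore p X : Subgroup X) : Set X) ≤ Cfsg.pCore p X →
      ∀ T : Sylow p X, (rel W (T : Subgroup X)).Normal)
    (S : Sylow p G) (A : Set G) (hA : A ⊆ (S : Subgroup G)) (g : G)
    (hg : (fun a => g * a * g⁻¹) '' A ⊆ (S : Subgroup G)) :
    ∃ x ∈ Subgroup.normalizer (rel W (S : Subgroup G) : Set G), ∀ a ∈ A, x * a * x⁻¹ = g * a * g⁻¹ := by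
  have hWp : IsCharPFunctor.{u} p W :=
    ⟨fun Q _ _ hQ hn => hW1 Q hQ hn, fun Q R _ _ _ _ φ => hW Q R φ⟩
  have h𝓦 : ∀ W' ∈ ({@W} : Set (∀ (Q : Type u) [Group Q], Subgroup Q)), Cfsg.IsCharPFunctor.{u} p W' := by
    rintro W' rfl; exact hWp
  have e1 : ∀ (X : Type u) [Group X], H33.ind X ({@W} : Set (∀ (Q : Type u) [Group Q], Subgroup Q)) =
      {Cfsg.inducedFunctor (G := X) W} := by
    intro X _
    exact Set.image_singleton
  have key := H33.sf_sections (G := G) h𝓦 (by
    intro X _ hX hc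
    rw [e1, ← H33.controls_iff_family]
    haveI : Finite X := hX.finite
    obtain ⟨T⟩ : Nonempty (Sylow p X) := inferInstance
    have hn := hloc X hX hc T
    refine ⟨(T : Subgroup _), le_top, T.2, by
      rw [Subgroup.relIndex_top_right]; exact T.not_dvd_index, ?_⟩
    intro A h _ hA hA'
    refine ⟨h, ?_, fun a _ => rfl⟩
    have hn' : (Cfsg.inducedFunctor (G := X) W (T : Subgroup X)).Normal := hn
    rw [Subgroup.normalizer_eq_top_iff.2 hn']
    exact ⟨Subgroup.mem_top _, Subgroup.mem_top _⟩) G (H2.Sec.refl G)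
  have h1 := H33.SFcontrol.of_family (H33.ind_conj h𝓦) key (H33.isSyl_top S)
  have h2 := h1 (Subgroup.closure A) (H33.closure_sub_iff.2 hA) g (Subgroup.mem_top _) (by
    rw [H33.cj_closure]; exact H33.closure_sub_iff.2 hg)
  rw [e1, H33.nFam_singleton] at h2
  obtain ⟨x, hx, h6⟩ := h2.single_fam
  exact ⟨x, hx.2, fun a ha => (h6 a (Subgroup.subset_closure ha))⟩

theorem isPStableOn_of_no_sl2 {p : ℕ} [Fact p.Prime] (hp : p ≠ 2) {G : Type u} [Group G] [Finite G]
    (hG : ¬ H36.QuadSL2.HasSL2Section p G) (P : Subgroup G) [P.Normal] (hP : IsPGroup p P) :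
    IsPStableOn p P := by
  intro a ha
  exact H36.PStabSec.mem_pCore_of_quad hp hG P hP (ha.le.trans bot_le)

theorem hasSL2Section_of_sec {p : ℕ} {X G : Type u} [Group X] [Group G] (h : H2.Sec X G)
    (hX : H36.QuadSL2.HasSL2Section p X) : H36.QuadSL2.HasSL2Section p G := by
  obtain ⟨K, f, hf⟩ := h
  exact (hX.of_surjective f hf).of_subgroup

/-- `Z(J(S))` controls strong fusion in groups without sections `SL(2, p)`. -/
theorem zje_control {p : ℕ} [Fact p.Prime] (hp : p ≠ 2) {G : Type u} [Group G] [Finite G]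
    (hG : ¬ H36.QuadSL2.HasSL2Section p G)
    (S : Sylow p G) (A : Set G) (hA : A ⊆ (S : Subgroup G)) (g : G)
    (hg : (fun a => g * a * g⁻¹) '' A ⊆ (S : Subgroup G)) :
    ∃ x ∈ Subgroup.normalizer (centerThompsonOf p (S : Subgroup G) : Set G), ∀ a ∈ A, x * a * x⁻¹ = g * a * g⁻¹ := by
  have h := control_of_sections (p := p) (W := fun X _ => zje p X) (isNat_zje p)
    (fun X _ _ hX hn => zje_ne_bot X hX hn) (G := G) (by
      intro X _ _ hX hc T
      rw [rel_zje]
      exact centerThompsonOf_normal hp hc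
        (fun P _ hP => isPStableOn_of_no_sl2 hp (fun h => hG (hasSL2Section_of_sec hX h)) P hP) T)
    S A hA g hg
  rw [rel_zje] at h
  exact h

end Cfsg.Agent.ZJ
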