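import Mathlib
import Cfsg.Agent.ZJ.Control
import Cfsg.Agent.H2.KInfDeg

/-!
`p`-stability in the normalizer form when no automizer `N(Q)/C(Q)` involves `SL(2, p)`.
-/

set_option autoImplicit false

namespace Cfsg.Agent.ZJ

open Cfsg Subgroup
open Cfsg.Agent.H36.QuadSL2 (HasSL2Section)
open scoped commutatorElement Pointwise

universe u

section

variable {G : Type u} [Group G] [Finite G] {p : ℕ} [hp : Fact p.Prime]

/-- version of `H36.QuadStab.isPStableOn` for the acting group. -/
theorem isPStableOn_of_quot (hp2 : p ≠ 2) (V : Subgroup G) [hVn : V.Normal] (hV : IsElementaryAbelian p V)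
    (hG : ¬ HasSL2Section p (G ⧸ centralizer (V : Set G))) : IsPStableOn p V := by
  intro a ha
  by_contra hcon
  apply hG
  have hV' := (H34.isElementaryAbelian_iff p V).1 hV
  letI : CommGroup ↥V := { (inferInstance : Group ↥V) with
    mul_comm := fun x y => Subtype.ext (hV'.1 x x.2 y y.2) }
  have hker : (MulAut.conjNormal (H := V)).ker = centralizer (V : Set G) := by
    ext g
    rw [MonoidHom.mem_ker, mem_centralizer_iff]
    constructor
    · intro h v hv
      have h1 := congrArg (fun f : MulAut ↥V => ((f ⟨v, hv⟩ : ↥V) : G)) h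
      have h2 : g * v * g⁻¹ = v := by simpa using h1
      rw [mul_inv_eq_iff_eq_mul] at h2
      exact h2.symm
    · intro h
      apply MulEquiv.ext
      rintro ⟨v, hv⟩
      apply Subtype.ext
      show g * v * g⁻¹ = v
      rw [← h v hv]; group
  have key : ∀ (K : Subgroup G) [K.Normal], (MulAut.conjNormal (H := V)).ker = K →
      (QuotientGroup.mk a : G ⧸ K) ∉ pCore p (G ⧸ K) → HasSL2Section p (G ⧸ K) := by
    intro K _ hK hcon
    subst hK
    refine H36.QuadStab.key_mulAut hp2 (W := ↥V) (fun w => Subtype.ext (hV'.2 w w.2))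
      (QuotientGroup.kerLift (MulAut.conjNormal (H := V))) ?_
      (x := (QuotientGroup.mk a : G ⧸ (MulAut.conjNormal (H := V)).ker)) ?_ hcon
    · intro g hg
      exact QuotientGroup.kerLift_injective _ (by rw [hg, map_one])
    · rintro ⟨v, hv⟩
      apply Subtype.ext
      have h1 : Commute a ⁅a, v⁆ := (show H36.QuadOn.Quad V a from ha).commute hv
      show a * (a * v * a⁻¹ * v⁻¹) * a⁻¹ = a * v * a⁻¹ * v⁻¹
      rw [commutatorElement_def] at h1
      rw [h1.eq]; group
  exact key _ hker hcon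

theorem hasSL2Section_of_surj {A B : Type u} [Group A] [Group B] (f : A →* B) (hf : Function.Surjective f)
    (h : HasSL2Section p B) : HasSL2Section p A := h.of_surjective f hf

/-- `P` a normal `p`-subgroup of `G`, `G / C_G(P)` without section `SL(2, p)`: quadratic elements map into
`O_p(G / C_G(P))`. -/
theorem mem_pCore_of_quad_quot (hp2 : p ≠ 2) (P : Subgroup G) [hPn : P.Normal] (hP : IsPGroup p P)
    (hG : ¬ HasSL2Section p (G ⧸ centralizer (P : Set G))) : IsPStableOn p P := by
  intro a ha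
  have hN : ((frattini ↥P).map P.subtype).Normal := inferInstance
  obtain ⟨N, hNdef⟩ : ∃ N : Subgroup G, N = (frattini ↥P).map P.subtype := ⟨_, rfl⟩
  have hNn : N.Normal := by rw [hNdef]; exact hN
  have hV : IsElementaryAbelian p (P.map (QuotientGroup.mk' N)) := by
    subst hNdef; exact H36.ActStab.map_frattini_elementary hP
  have hVn : (P.map (QuotientGroup.mk' N)).Normal := hPn.map _ (QuotientGroup.mk'_surjective N)
  obtain ⟨C, hC⟩ : ∃ C : Subgroup (G ⧸ N), C = centralizer ((P.map (QuotientGroup.mk' N) : Subgroup (G ⧸ N)) : Set (G ⧸ N)) :=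
    ⟨_, rfl⟩
  have hCn : C.Normal := by rw [hC]; infer_instance
  have hGC : ¬ HasSL2Section p ((G ⧸ N) ⧸ C) := by
    intro h
    apply hG
    have hle : centralizer (P : Set G) ≤ ((QuotientGroup.mk' C).comp (QuotientGroup.mk' N)).ker := by
      intro c hc
      rw [MonoidHom.mem_ker]
      show QuotientGroup.mk' C (QuotientGroup.mk' N c) = 1
      rw [← MonoidHom.mem_ker, QuotientGroup.ker_mk', hC, mem_centralizer_iff]
      rintro _ ⟨x, hx, rfl⟩
      rw [← map_mul, ← map_mul, mem_centralizer_iff.1 hc x hx]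
    refine h.of_surjective (QuotientGroup.lift (centralizer (P : Set G))
      ((QuotientGroup.mk' C).comp (QuotientGroup.mk' N)) hle) ?_
    intro y
    obtain ⟨z, rfl⟩ := QuotientGroup.mk'_surjective C y
    obtain ⟨x, rfl⟩ := QuotientGroup.mk'_surjective N z
    exact ⟨QuotientGroup.mk x, rfl⟩
  have h1 : (QuotientGroup.mk (QuotientGroup.mk' N a) : (G ⧸ N) ⧸ C) ∈ pCore p ((G ⧸ N) ⧸ C) := by
    subst hC
    refine isPStableOn_of_quot hp2 (P.map (QuotientGroup.mk' N)) hV hGC (QuotientGroup.mk' N a) ?_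
    rw [← MonoidHom.map_zpowers, ← map_commutator, ← map_commutator, ha, Subgroup.map_bot]
  obtain ⟨E, hE⟩ : ∃ E : Subgroup (G ⧸ N), E = (pCore p ((G ⧸ N) ⧸ C)).comap (QuotientGroup.mk' C) :=
    ⟨_, rfl⟩
  have hEn : E.Normal := by rw [hE]; infer_instance
  obtain ⟨D, hD⟩ : ∃ D : Subgroup G, D = E.comap (QuotientGroup.mk' N) := ⟨_, rfl⟩
  have hDn : D.Normal := by rw [hD]; infer_instance
  have haD : a ∈ D := by rw [hD, hE]; exact h1
  have hDp : IsPGroup p (D.map (QuotientGroup.mk' (centralizer (P : Set G)))) := by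
    rintro ⟨_, d, hd, rfl⟩
    have h2 : QuotientGroup.mk' C (QuotientGroup.mk' N d) ∈ pCore p ((G ⧸ N) ⧸ C) := by
      rw [hD, hE] at hd; exact hd
    obtain ⟨k, hk⟩ := (Solv.pCore_isPGroup (G := (G ⧸ N) ⧸ C) p) ⟨_, h2⟩
    have hk' : QuotientGroup.mk' C (QuotientGroup.mk' N (d ^ p ^ k)) = 1 := by
      rw [map_pow, map_pow]
      exact congrArg Subtype.val hk
    have h3 : d ^ p ^ k ∈ sectionKernel P ((frattini ↥P).map P.subtype) := by
      have h4 : QuotientGroup.mk' N (d ^ p ^ k) ∈ C := by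
        rwa [← MonoidHom.mem_ker, QuotientGroup.ker_mk'] at hk'
      subst hNdef
      rw [hC] at h4
      exact h4
    obtain ⟨l, hl⟩ := H36.PStabSec.pow_mem_centralizer hP hPn h3
    refine ⟨k + l, ?_⟩
    apply Subtype.ext
    show (QuotientGroup.mk' (centralizer (P : Set G)) d) ^ p ^ (k + l) = 1
    rw [← map_pow, pow_add, pow_mul]
    exact (QuotientGroup.eq_one_iff _).2 hl
  exact Solv.le_pCore (hDn.map _ (QuotientGroup.mk'_surjective _)) hDp ⟨a, haD, rfl⟩

end

/-- no automizer `N(Q)/C(Q)` of a `p`-subgroup involves `SL(2, p)`. -/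
def LocFree (p : ℕ) (X : Type u) [Group X] : Prop :=
  ∀ (Q : Subgroup X), IsPGroup p Q → ∀ (H : Subgroup X)
    (φ : H →* Matrix.SpecialLinearGroup (Fin 2) (ZMod p)), H ≤ normalizer (Q : Set X) →
    Function.Surjective φ → (∀ h : H, (h : X) ∈ centralizer (Q : Set X) → φ h = 1) → False

theorem locFree_subgroup {p : ℕ} {G : Type u} [Group G] (hG : LocFree p G) (K : Subgroup G) : LocFree p K := by
  intro Q hQ H φ hH hφ hC
  refine hG (Q.map K.subtype) (hQ.map _) (H.map K.subtype)
    (φ.comp (H.equivMapOfInjective K.subtype K.subtype_injective).symm.toMonoidHom) ?_ ?_ ?_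
  · rintro _ ⟨h, hh, rfl⟩
    have h1 := hH hh
    rw [mem_normalizer_iff] at h1 ⊢
    intro x
    constructor
    · rintro ⟨y, hy, rfl⟩
      exact ⟨h * y * h⁻¹, (h1 y).1 hy, by simp⟩
    · rintro ⟨y, hy, hyx⟩
      have hx : x = ((h⁻¹ * y * h : K) : G) := by
        have : (y : G) = h * x * (h : G)⁻¹ := hyx
        push_cast
        rw [this]; group
      refine ⟨h⁻¹ * y * h, ?_, hx.symm⟩
      have h2 := (h1 (h⁻¹ * y * h)).2
      apply h2
      have : h * (h⁻¹ * y * h) * h⁻¹ = y := by group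
      rw [this]; exact hy
  · exact hφ.comp (H.equivMapOfInjective K.subtype K.subtype_injective).symm.surjective
  · rintro ⟨x, hx⟩ hxc
    obtain ⟨h, hh, rfl⟩ := hx
    have e1 : (H.equivMapOfInjective K.subtype K.subtype_injective).symm ⟨K.subtype h, h, hh, rfl⟩ = ⟨h, hh⟩ := by
      rw [MulEquiv.symm_apply_eq]
      rfl
    show φ _ = 1
    have : (H.equivMapOfInjective K.subtype K.subtype_injective).symm.toMonoidHom ⟨K.subtype h, h, hh, rfl⟩
        = ⟨h, hh⟩ := e1
    rw [this]
    apply hC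
    rw [mem_centralizer_iff] at hxc ⊢
    intro q hq
    exact Subtype.ext (hxc (q : G) ⟨q, hq, rfl⟩)

theorem locFree_of_surjective {p : ℕ} [hp : Fact p.Prime] {A X : Type u} [Group A] [Finite A] [Group X]
    (hA : LocFree p A) (f : A →* X) (hf : Function.Surjective f) : LocFree p X := by
  intro Q hQ H φ hH hφ hC
  have : Finite X := Finite.of_surjective f hf
  set B : Subgroup A := Q.comap f with hB
  obtain ⟨T0⟩ : Nonempty (Sylow p B) := inferInstance
  set T : Subgroup A := (T0 : Subgroup B).map B.subtype with hT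
  have hTB : T ≤ B := map_subtype_le _
  have hTp : IsPGroup p T := T0.isPGroup'.map _
  -- `f(T) = Q`
  have hBQ : B.map f = Q := map_comap_eq_self_of_surjective hf Q
  have hTQ : T.map f = Q := by
    set g : B →* Q := f.subgroupComap Q with hg
    have hgs : Function.Surjective g := by
      rintro ⟨q, hq⟩
      obtain ⟨a, rfl⟩ := hf q
      exact ⟨⟨a, hq⟩, rfl⟩
    have h1 : ((T0.mapSurjective hgs : Sylow p Q) : Subgroup Q) = ⊤ := by
      have h2 : IsPGroup p (⊤ : Subgroup Q) := hQ.of_equiv (Subgroup.topEquiv (G := Q)).symm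
      exact (T0.mapSurjective hgs).is_maximal' h2 le_top |>.symm
    have h3 : (T0 : Subgroup B).map g = ⊤ := h1
    apply le_antisymm
    · rw [← hBQ]; exact map_mono hTB
    · intro q hq
      have h4 : (⟨q, hq⟩ : Q) ∈ (T0 : Subgroup B).map g := by rw [h3]; trivial
      obtain ⟨b, hb, hb'⟩ := h4
      exact ⟨(b : A), ⟨b, hb, rfl⟩, congrArg Subtype.val hb'⟩
  set H2 : Subgroup A := normalizer (T : Set A) ⊓ H.comap f with hH2
  have hsurj : ∀ h ∈ H, ∃ a ∈ H2, f a = h := by
    intro h hh
    obtain ⟨a, rfl⟩ := hf h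
    have haB : a ∈ normalizer (B : Set A) := by
      have h1 := hH hh
      rw [mem_normalizer_iff] at h1 ⊢
      intro x
      rw [hB, mem_comap, mem_comap, map_mul, map_mul, map_inv]
      exact h1 (f x)
    obtain ⟨T1, hT1⟩ := Cop.exists_sylow_conj T0 haB
    obtain ⟨b, hb, hb'⟩ := Cop.sylow_trans T1 T0
    rw [hT1] at hb'
    have hfb : f b ∈ T.map f := by rw [hTQ]; exact hb
    obtain ⟨t, ht, htb⟩ := hfb
    refine ⟨t⁻¹ * b * a, ⟨?_, ?_⟩, ?_⟩
    · apply Cop.mem_normalizer_of_conj_smul_eq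
      rw [map_mul, map_mul, mul_smul, mul_smul]
      change MulAut.conj t⁻¹ • (MulAut.conj b • (MulAut.conj a • (T0 : Subgroup B).map B.subtype)) = T
      rw [hb']
      exact Cop.conj_smul_eq_of_mem_normalizer (le_normalizer (inv_mem ht))
    · show f (t⁻¹ * b * a) ∈ H
      rw [map_mul, map_mul, map_inv, htb, inv_mul_cancel, one_mul]
      exact hh
    · rw [map_mul, map_mul, map_inv, htb, inv_mul_cancel, one_mul]
  have hmem : ∀ a : H2, f (a : A) ∈ H := fun a => a.2.2
  set g : H2 →* H := (f.comp H2.subtype).codRestrict H hmem with hg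
  refine hA T hTp H2 (φ.comp g) inf_le_left ?_ ?_
  · refine hφ.comp ?_
    rintro ⟨h, hh⟩
    obtain ⟨a, ha, hah⟩ := hsurj h hh
    exact ⟨⟨a, ha⟩, Subtype.ext hah⟩
  · intro x hx
    apply hC
    show f (x : A) ∈ _
    rw [mem_centralizer_iff, ← hTQ]
    rintro _ ⟨t, ht, rfl⟩
    rw [← map_mul, ← map_mul, mem_centralizer_iff.1 hx t ht]

theorem locFree_of_sec {p : ℕ} [hp : Fact p.Prime] {X G : Type u} [Group X] [Group G] [Finite G]
    (hG : LocFree p G) (h : H2.Sec X G) : LocFree p X := by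
  obtain ⟨K, f, hf⟩ := h
  exact locFree_of_surjective (locFree_subgroup hG K) f hf

theorem not_hasSL2Section_of_locFree {p : ℕ} {G : Type u} [Group G] (hG : LocFree p G)
    {Q : Subgroup G} (hQ : IsPGroup p Q) (K : Subgroup ↥(normalizer (Q : Set G))) [K.Normal]
    (hK : K = (centralizer (Q : Set G)).subgroupOf (normalizer (Q : Set G))) :
    ¬ HasSL2Section p (↥(normalizer (Q : Set G)) ⧸ K) := by
  rintro ⟨K', f, hf⟩
  obtain ⟨π, hπ⟩ : ∃ π : ↥(normalizer (Q : Set G)) →* ↥(normalizer (Q : Set G)) ⧸ K, π = QuotientGroup.mk' K :=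
    ⟨_, rfl⟩
  have hπs : Function.Surjective π := by rw [hπ]; exact QuotientGroup.mk'_surjective K
  have hπk : π.ker = K := by rw [hπ]; exact QuotientGroup.ker_mk' K
  obtain ⟨H1, hH1⟩ : ∃ H1 : Subgroup ↥(normalizer (Q : Set G)), H1 = K'.comap π := ⟨_, rfl⟩
  subst hH1
  obtain ⟨g, hg⟩ : ∃ g : ↥(K'.comap π) →* K', g = π.subgroupComap K' := ⟨_, rfl⟩
  have hgs : Function.Surjective g := by
    rintro ⟨x, hx⟩
    obtain ⟨a, rfl⟩ := hπs x
    exact ⟨⟨a, hx⟩, by rw [hg]; rfl⟩
  refine hG Q hQ ((K'.comap π).map (normalizer (Q : Set G)).subtype)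
    ((f.comp g).comp ((K'.comap π).equivMapOfInjective (normalizer (Q : Set G)).subtype
      (normalizer (Q : Set G)).subtype_injective).symm.toMonoidHom)
    (map_subtype_le _) ?_ ?_
  · exact (hf.comp hgs).comp ((K'.comap π).equivMapOfInjective (normalizer (Q : Set G)).subtype
      (normalizer (Q : Set G)).subtype_injective).symm.surjective
  · rintro ⟨x, hx⟩ hxc
    obtain ⟨h, hh, rfl⟩ := hx
    have e1 : ((K'.comap π).equivMapOfInjective (normalizer (Q : Set G)).subtype
        (normalizer (Q : Set G)).subtype_injective).symm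
        ⟨(normalizer (Q : Set G)).subtype h, h, hh, rfl⟩ = ⟨h, hh⟩ := by
      rw [MulEquiv.symm_apply_eq]
      rfl
    show f (g (((K'.comap π).equivMapOfInjective (normalizer (Q : Set G)).subtype
        (normalizer (Q : Set G)).subtype_injective).symm
        ⟨(normalizer (Q : Set G)).subtype h, h, hh, rfl⟩)) = 1
    rw [e1]
    have h2 : g ⟨h, hh⟩ = 1 := by
      apply Subtype.ext
      rw [hg]
      show π h = 1
      rw [← MonoidHom.mem_ker, hπk, hK]
      exact hxc
    rw [h2, map_one]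

/-- local `SL(2, p)`-freeness gives `p`-stability in the normalizer form. -/
theorem isNormalizerPStable_of_locFree {p : ℕ} [hp : Fact p.Prime] (hp2 : p ≠ 2) {G : Type u} [Group G]
    [Finite G] (hG : LocFree p G) : IsNormalizerPStable p G := by
  intro P hP g hg hq
  set N := normalizer (P : Set G) with hN
  set P' := P.subgroupOf N with hP'
  have hPn : P'.Normal := normal_subgroupOf_iff_le_normalizer le_normalizer |>.2 le_rfl
  have hPp : IsPGroup p P' := hP.comap_of_injective _ N.subtype_injective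
  have hC : centralizer (P' : Set N) = (centralizer (P : Set G)).subgroupOf N := by
    ext x
    rw [mem_subgroupOf, mem_centralizer_iff, mem_centralizer_iff]
    constructor
    · intro h y hy
      exact congrArg Subtype.val (h ⟨y, le_normalizer hy⟩ hy)
    · intro h y hy
      exact Subtype.ext (h y hy)
  have key : ∀ (K : Subgroup N) [K.Normal], centralizer (P' : Set N) = K →
      K = (centralizer (P : Set G)).subgroupOf N →
      (QuotientGroup.mk (⟨g, hg⟩ : N) : N ⧸ K) ∈ pCore p (N ⧸ K) := by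
    intro K _ h1 h2
    subst h1
    refine mem_pCore_of_quad_quot hp2 P' hPp (not_hasSL2Section_of_locFree hG hP _ h2) ⟨g, hg⟩ ?_
    have h3 : (⁅⁅P', zpowers (⟨g, hg⟩ : N)⁆, zpowers (⟨g, hg⟩ : N)⁆).map N.subtype = ⊥ := by
      rw [map_commutator, map_commutator, MonoidHom.map_zpowers, hP', subgroupOf_map_subtype,
        inf_eq_left.mpr (le_normalizer (H := P))]
      exact hq
    exact (Subgroup.map_eq_bot_iff_of_injective _ N.subtype_injective).1 h3
  exact key _ hC rfl

end Cfsg.Agent.ZJ
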